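/-!
Data for the isomorphism of the 112 point model with PSU(4,3): an isotropic line for each point, a matrix for
each generator, witnesses for scalarity. Computer generated; checked in `Check.lean`.
-/

set_option autoImplicit false

namespace H52.U43

/-- bases of the lines, by the code of the point -/
def lineTab : List (Nat × Nat) := [(37, 2997), (0, 0), (0, 0), (0, 0), (0, 0), (0, 0), (0, 0), (0, 0), (0, 0), (0, 0), (0, 0), (0, 0), (0, 0), (1945, 2277), (2917, 414), (4618, 4869), (0, 0), (0, 0), (0, 0), (0, 0), (0, 0), (0, 0), (4456, 1710), (892, 819), (3646, 657), (0, 0), (0, 0), (0, 0), (0, 0), (0, 0), (0, 0), (2350, 1224), (5104, 333), (1540, 1629), (0, 0), (0, 0), (0, 0), (0, 0), (0, 0), (0, 0), (0, 0), (0, 0), (0, 0), (0, 0), (0, 0), (0, 0), (0, 0), (0, 0), (0, 0), (0, 0), (0, 0), (0, 0), (0, 0), (0, 0), (0, 0), (0, 0), (0, 0), (0, 0), (973, 4545), (2674, 2439), (5833, 576), (0, 0), (0, 0), (0, 0), (0, 0), (0, 0), (0, 0), (0, 0), (0, 0), (0, 0),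 (0, 0), (0, 0), (0, 0), (0, 0), (0, 0), (0, 0), (0, 0), (0, 0), (0, 0), (0, 0), (0, 0), (0, 0), (0, 0), (0, 0), (0, 0), (406, 3654), (4861, 900), (2269, 4464), (0, 0), (0, 0), (0, 0), (0, 0), (0, 0), (0, 0), (0, 0), (0, 0), (0, 0), (0, 0), (0, 0), (0, 0), (0, 0), (0, 0), (0, 0), (0, 0), (0, 0), (0, 0), (0, 0), (0, 0), (0, 0), (0, 0), (0, 0), (0, 0), (0, 0), (0, 0), (0, 0), (0, 0), (0, 0), (0, 0), (46, 2997), (64, 2997), (73, 2997), (0, 0), (0, 0), (0, 0), (0, 0), (0, 0), (0, 0), (0, 0), (0, 0), (0, 0), (0, 0), (0, 0), (0, 0), (0, 0), (0, 0), (0, 0), (0, 0), (0, 0), (0, 0), (0, 0), (0, 0), (0, 0), (0, 0), (0, 0), (0, 0), (325, 2925), (1621, 4626), (1216, 1953), (0, 0), (0, 0), (0, 0), (0, 0), (0, 0), (0, 0), (0, 0), (0, 0), (0, 0), (0, 0), (0, 0), (0, 0), (0, 0), (0, 0), (0, 0), (0, 0), (0, 0), (0, 0), (568, 5112), (4537, 2358), (2431, 1548), (0, 0), (0, 0), (0, 0), (0, 0), (0, 0), (0, 0), (0, 0), (0, 0), (0, 0), (0, 0), (0, 0), (0, 0), (0, 0), (0, 0), (0,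 0), (0, 0), (0, 0), (0, 0), (0, 0), (0, 0), (0, 0), (0, 0), (0, 0), (0, 0), (0, 0), (0, 0), (0, 0), (0, 0), (0, 0), (0, 0), (37, 3726), (37, 5184), (37, 5913), (0, 0), (0, 0), (0, 0), (0, 0), (0, 0), (0, 0), (0, 0), (0, 0), (0, 0), (0, 0), (0, 0), (0, 0), (0, 0), (0, 0), (0, 0), (0, 0), (0, 0), (0, 0), (0, 0), (0, 0), (0, 0), (0, 0), (0, 0), (0, 0), (649, 5841), (1702, 981), (811, 2682), (0, 0), (0, 0), (0, 0), (0, 0), (0, 0), (0, 0), (0, 0), (0, 0), (0, 0), (0, 0), (0, 0), (0, 0), (0, 0), (0, 0), (0, 0), (46, 3726), (5833, 657), (2917, 333), (2917, 657), (2431, 4626), (1621, 900), (406, 5112), (2917, 576), (5104, 657), (5833, 333), (811, 1548), (4861, 2682), (73, 5913), (649, 2925), (325, 5841), (5104, 576), (1702, 4464), (4537, 981), (568, 3654), (3646, 333), (5833, 414), (3646, 414), (2269, 1953), (1216, 2358), (64, 5184), (5104, 414), (3646, 576), (64, 5913), (1540, 4869), (892, 2439), (2431, 900), (892, 1629), (2674, 4869), (892, 4869), (406, 2925),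 (325, 5112), (4861, 1548), (4618, 2439), (1540, 819), (46, 5184), (2674, 819), (4618, 1629), (4618, 819), (4537, 1953), (1216, 4464), (1540, 2439), (649, 3654), (568, 5841), (2674, 1629), (1702, 2358), (2269, 981), (73, 3726), (811, 4626), (1621, 2682), (73, 5184), (1702, 1953), (1216, 981), (2350, 4545), (811, 900), (2431, 2682), (973, 1224), (649, 5112), (406, 5841), (4456, 2277), (4861, 4626), (1621, 1548), (64, 3726), (2350, 2277), (4456, 4545), (4537, 4464), (4456, 1224), (973, 2277), (1945, 1710), (568, 2925), (325, 3654), (2269, 2358), (1945, 4545), (2350, 1710), (46, 5913), (973, 1710), (1945, 1224)]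

/-- rows of the matrices of the generators -/
def matTab : List (List Nat) := [[550, 1373, 6437, 1836], [1788, 6372, 520, 4421], [1418, 3236, 3355, 6284], [4832, 5255, 4310, 5790], [67, 49, 4050, 3564], [420, 3674, 1705, 4491], [704, 5844, 2273, 1989], [3809, 2772, 119, 791], [3809, 2772, 235, 1489], [1, 9, 81, 729], [1223, 2421, 588, 5158], [2276, 2016, 461, 3657], [103, 793, 1298, 3096], [1005, 231, 4884, 6076], [2201, 1235, 2160, 1560], [178, 1496, 1783, 5193], [790, 4593, 2853, 4888], [2369, 532, 946, 5997]]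

/-- isotropic points with two lines through each -/
def witTab : List (Nat × Nat × Nat) := [(4762, 119, 318), (2818, 268, 166), (136, 31, 287), (3268, 279, 87), (2674, 284, 292)]

/-- coefficients of the fifth point -/
def coTab : List Nat := [3, 5, 1, 4]

end H52.U43
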