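import Cfsg.Agent.H87.U43.Defs
import Cfsg.Agent.H50.K9
import Cfsg.Agent.H50.Center
import Cfsg.Agent.H50.DetCentralizer
import Cfsg.Agent.H52.U43.Data

/-!
The checks on the data: lines, matrices and witnesses.
-/

set_option autoImplicit false
set_option maxRecDepth 10000

namespace H52.U43

open Cfsg Matrix H87.U43

/-- the field -/
abbrev K : Type := H50.Nine.F
/-- vectors -/
abbrev W : Type := Fin 4 → K

theorem hK : Fintype.card K = 3 ^ 2 := H50.Nine.F.card_eq

/-- decoding -/
def dec (c : ℕ) : W := fun i => H50.Nine.F.ofN (c / 9 ^ (i : ℕ) % 9)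

/-- code of a vector -/
def c3 (v : V4) : ℕ := (v 0).val + 3 * (v 1).val + 9 * (v 2).val + 27 * (v 3).val

/-- code of a point -/
def code : Pt → ℕ
  | .top => 0
  | .near v c => 1 + 3 * c3 v + c.val
  | .far a => 244 + c3 a

/-- the line of a code -/
def lineC (n : ℕ) : W × W := (dec (lineTab.getD n (0, 0)).1, dec (lineTab.getD n (0, 0)).2)

/-- leading coordinate -/
def coefB (x b : W) : K :=
  if b 0 ≠ 0 then x 0 else if b 1 ≠ 0 then x 1 else if b 2 ≠ 0 then x 2 else x 3

/-- membership in a line -/
def inSp (x : W) (L : W × W) : Bool :=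
  [0, 1, 2, 3].all fun i : Fin 4 => decide (x i = coefB x L.1 * L.1 i + coefB x L.2 * L.2 i)

/-- the span of a line -/
def Sp (L : W × W) (x : W) : Prop := ∃ a b : K, x = a • L.1 + b • L.2

theorem sp_of_inSp {x : W} {L : W × W} (h : inSp x L = true) : Sp L x := by
  refine ⟨coefB x L.1, coefB x L.2, funext fun i => ?_⟩
  simp only [inSp, List.all_eq_true, decide_eq_true_eq] at h
  exact h i (by fin_cases i <;> simp)

/-- the matrix of a generator -/
def matG (k : ℕ) : Matrix (Fin 4) (Fin 4) K := Matrix.of fun i j => dec ((matTab.getD k []).getD i.val 0) j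

/-- all vectors of length four -/
def allV : List V4 :=
  ([0, 1, 2] : List (ZMod 3)).flatMap fun a => ([0, 1, 2] : List (ZMod 3)).flatMap fun b =>
    ([0, 1, 2] : List (ZMod 3)).flatMap fun c => ([0, 1, 2] : List (ZMod 3)).map fun d => ![a, b, c, d]

/-- all points -/
def allPts : List Pt :=
  .top :: ((allV.filter fun v => decide (qA v = 0) && isLead v).flatMap fun v =>
    ([0, 1, 2] : List (ZMod 3)).map fun c => Pt.near v c) ++ allV.map Pt.far

theorem mem_allV (v : V4) : v ∈ allV := by
  have h : v = ![v 0, v 1, v 2, v 3] := by funext i; fin_cases i <;> rfl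
  rw [h]
  generalize v 0 = a, v 1 = b, v 2 = c, v 3 = d
  revert a b c d
  decide +kernel

theorem mem_allPts {p : Pt} (h : Valid p) : p ∈ allPts := by
  cases p with
  | top => simp [allPts]
  | near v c =>
    simp only [allPts, List.mem_cons, List.mem_append, List.mem_flatMap, List.mem_filter,
      Bool.and_eq_true, decide_eq_true_eq]
    refine Or.inl (Or.inr ⟨v, ⟨mem_allV v, h⟩, List.mem_map.2 ⟨c, ?_, rfl⟩⟩)
    clear h; revert c; decide +kernel
  | far a =>
    simp only [allPts, List.mem_cons, List.mem_append, List.mem_map]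
    exact Or.inr ⟨a, mem_allV a, rfl⟩

/-- validity as a test -/
def validB : Pt → Bool
  | .near v _ => decide (qA v = 0) && isLead v
  | _ => true

theorem valid_of_validB {p : Pt} (h : validB p = true) : Valid p := by
  cases p with
  | near v c => simpa [validB, Valid, IsNear, Bool.and_eq_true] using h
  | top => trivial
  | far a => trivial

/-- a map of points agrees with a matrix -/
def agreeB (f : Pt → Pt) (k : ℕ) : Bool :=
  allPts.all fun p => validB (f p) && inSp (matG k *ᵥ (lineC (code p)).1) (lineC (code (f p))) &&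
    inSp (matG k *ᵥ (lineC (code p)).2) (lineC (code (f p)))

/-- the coordinate vectors -/
def eV (i : Fin 4) : V4 := fun l => if l = i then 1 else 0

/-- the linear generators, in the order of the data -/
def linGen : List M4 :=
  [zMat, sMat, spMat, eMat, siegel 0 0, siegel 1 0, siegel 2 0, siegel 0 1, siegel 1 1, siegel 2 1,
    siegel 0 2, siegel 1 2, siegel 2 2]

theorem agree_j : agreeB jAct 0 = true := by decide +kernel

theorem agree_trans : ∀ i : Fin 4, agreeB (affAct (eV i) 1) (1 + i.val) = true := by decide +kernel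

theorem agree_lin0 : ((List.range' 0 7).all fun k => agreeB (affAct 0 (linGen.getD k 1)) (5 + k)) = true := by
  decide +kernel

theorem agree_lin1 : ((List.range' 7 6).all fun k => agreeB (affAct 0 (linGen.getD k 1)) (5 + k)) = true := by
  decide +kernel

theorem agree_lin : ∀ k < 13, agreeB (affAct 0 (linGen.getD k 1)) (5 + k) = true := fun k hk => by
  by_cases h : k < 7
  · exact List.all_eq_true.1 agree_lin0 k (List.mem_range'_1.2 (by omega))
  · exact List.all_eq_true.1 agree_lin1 k (List.mem_range'_1.2 (by omega))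

theorem siegel_mem : ∀ c d : ZMod 3, siegel c d ∈ linGen := by decide +kernel

theorem iso_check : ∀ k : Fin 18, H51.adj hK (matG k.val) * matG k.val = 1 ∧ (matG k.val).det = 1 := by
  decide +kernel

/-- distinct lines are not orthogonal -/
def sepB : Bool :=
  allPts.all fun p => allPts.all fun r => decide (p = r) ||
    ([(lineC (code p)).1, (lineC (code p)).2].any fun a =>
      [(lineC (code r)).1, (lineC (code r)).2].any fun b => decide (hermForm 4 K 3 a b ≠ 0))

/-- lines are totally isotropic -/
def tiB : Bool :=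
  allPts.all fun p => [(lineC (code p)).1, (lineC (code p)).2].all fun a =>
    [(lineC (code p)).1, (lineC (code p)).2].all fun b => decide (hermForm 4 K 3 a b = 0)

theorem sep_ok : sepB = true := by decide +kernel

theorem ti_ok : tiB = true := by decide +kernel

/-- the five points -/
def witV (i : ℕ) : W := dec (witTab.getD i (0, 0, 0)).1

/-- the matrix of the first four points -/
def witB : Matrix (Fin 4) (Fin 4) K := Matrix.of fun i j => witV j.val i

/-- the coefficients -/
def coV : W := fun i => H50.Nine.F.ofN (coTab.getD i.val 0)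

theorem wit_ok : ∀ i : Fin 5,
    (∃ p ∈ allPts, code p = (witTab.getD i.val (0, 0, 0)).2.1) ∧
    (∃ p ∈ allPts, code p = (witTab.getD i.val (0, 0, 0)).2.2) ∧
    inSp (witV i.val) (lineC (witTab.getD i.val (0, 0, 0)).2.1) = true ∧
    inSp (witV i.val) (lineC (witTab.getD i.val (0, 0, 0)).2.2) = true ∧
    (∀ a b : K, inSp (a • (lineC (witTab.getD i.val (0, 0, 0)).2.2).1 +
      b • (lineC (witTab.getD i.val (0, 0, 0)).2.2).2) (lineC (witTab.getD i.val (0, 0, 0)).2.2) = true) ∧
    (∀ a b : K, inSp (a • (lineC (witTab.getD i.val (0, 0, 0)).2.1).1 +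
      b • (lineC (witTab.getD i.val (0, 0, 0)).2.1).2) (lineC (witTab.getD i.val (0, 0, 0)).2.2) = true →
      ∃ l : K, a • (lineC (witTab.getD i.val (0, 0, 0)).2.1).1 +
        b • (lineC (witTab.getD i.val (0, 0, 0)).2.1).2 = l • witV i.val) := by
  decide +kernel

theorem frame_ok : witB.det ≠ 0 ∧ witB *ᵥ coV = witV 4 ∧ ∀ i, coV i ≠ 0 := by decide +kernel

end H52.U43
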