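import Cfsg.Agent.H52.U43.Check
import Cfsg.Agent.H50.Count
import Cfsg.Agent.H50.Center
import Cfsg.Agent.H64.SUTransport

/-!
If the 112 point model group has order 3265920, it is isomorphic to `PSU(4,3)`: every permutation in it is
induced on the 112 totally isotropic lines by an element of `SU(4,3)`, unique up to the centre.
-/

set_option autoImplicit false
set_option linter.unusedSectionVars false

namespace H52.U43

open Cfsg Matrix H87.U43 H50

/-- a point of the model -/
abbrev VPt : Type := {p : Pt // Valid p}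

/-- the line of a point -/
def line (p : Pt) : W × W := lineC (code p)

/-- the element moves lines as the map moves points -/
def Agree (f : Pt → Pt) (g : SU 4 K 3) : Prop :=
  ∀ p, Valid p → Valid (f p) ∧ ∀ x, Sp (line p) x → Sp (line (f p)) (suMat g *ᵥ x)

/-- the element of a matrix in the data -/
noncomputable def gen (k : Fin 18) : SU 4 K 3 :=
  mkSU (matG k.val)
    (fun a b => by rw [h_mulVec_left hK, mulVec_mulVec, (iso_check k).1, one_mulVec]) (iso_check k).2

theorem suMat_gen (k : Fin 18) : suMat (gen k) = matG k.val := rfl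

theorem sp_add {L : W × W} {x y : W} (hx : Sp L x) (hy : Sp L y) : Sp L (x + y) := by
  obtain ⟨a, b, rfl⟩ := hx
  obtain ⟨c, d, rfl⟩ := hy
  exact ⟨a + c, b + d, by rw [add_smul, add_smul]; abel⟩

theorem sp_smul {L : W × W} {x : W} (hx : Sp L x) (c : K) : Sp L (c • x) := by
  obtain ⟨a, b, rfl⟩ := hx
  exact ⟨c * a, c * b, by rw [smul_add, smul_smul, smul_smul]⟩

theorem sp_fst (L : W × W) : Sp L L.1 := ⟨1, 0, by simp⟩

theorem sp_snd (L : W × W) : Sp L L.2 := ⟨0, 1, by simp⟩

theorem agree_of_agreeB {f : Pt → Pt} {k : ℕ} (hk : k < 18) (h : agreeB f k = true) :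
    Agree f (gen ⟨k, hk⟩) := by
  intro p hp
  simp only [agreeB, List.all_eq_true, Bool.and_eq_true] at h
  obtain ⟨⟨h1, h2⟩, h3⟩ := h p (mem_allPts hp)
  refine ⟨valid_of_validB h1, ?_⟩
  rintro x ⟨a, b, rfl⟩
  rw [suMat_gen, mulVec_add, mulVec_smul, mulVec_smul]
  exact sp_add (sp_smul (sp_of_inSp h2) a) (sp_smul (sp_of_inSp h3) b)

theorem agree_comp {f f' : Pt → Pt} {g g' : SU 4 K 3} (h : Agree f g) (h' : Agree f' g') :
    Agree (fun p => f (f' p)) (g * g') := by
  intro p hp
  obtain ⟨v1, s1⟩ := h' p hp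
  obtain ⟨v2, s2⟩ := h _ v1
  exact ⟨v2, fun x hx => by rw [suMat_mulVec_mul]; exact s2 _ (s1 x hx)⟩

theorem agree_id : Agree (fun p => p) 1 := fun p hp => ⟨hp, fun x hx => by rwa [suMat_one, one_mulVec]⟩

theorem agree_congr {f f' : Pt → Pt} {g : SU 4 K 3} (h : Agree f g) (e : ∀ p, Valid p → f' p = f p) :
    Agree f' g := fun p hp => by rw [e p hp]; exact h p hp

theorem app_one (v : V4) : app 1 v = v := by
  rw [app_eq_mulVec, Matrix.one_mulVec]

theorem app_mul (m m' : M4) (v : V4) : app (m * m') v = app m (app m' v) := by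
  rw [app_eq_mulVec, app_eq_mulVec, app_eq_mulVec, mulVec_mulVec]

theorem app_neg (m : M4) (v : V4) : app m (-v) = -app m v := by
  rw [app_eq_mulVec, app_eq_mulVec, mulVec_neg]

theorem bA_add_right (v a b : V4) : bA v (a + b) = bA v a + bA v b := by
  simp [bA]; ring

theorem bA_zero_right (v : V4) : bA v 0 = 0 := by simp [bA]

theorem lead_table : ∀ v ∈ allV, qA v = 0 → v = 0 ∨ (isLead v = !isLead (-v)) := by decide +kernel

theorem mkNear_valid {v : V4} {c : ZMod 3} (h : Valid (mkNear v c)) : qA v = 0 ∧ v ≠ 0 := by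
  rw [mkNear] at h
  split_ifs at h with hl
  · exact ⟨h.1, fun e => by simp [e, isLead] at hl⟩
  · obtain ⟨h1, h2⟩ := h
    refine ⟨?_, fun e => by simp [e, isLead] at h2⟩
    simpa [qA] using h1

theorem mkNear_neg {v : V4} (hq : qA v = 0) (hv : v ≠ 0) (c : ZMod 3) :
    mkNear (-v) (-c) = mkNear v c := by
  have h := (lead_table v (mem_allV v) hq).resolve_left hv
  rw [mkNear, mkNear]
  cases hn : isLead (-v) <;> rw [hn] at h <;> simp at h <;> simp [h]

theorem affAct_mkNear {m : M4} (hm : ∀ p, Valid p → Valid (affAct 0 m p)) {v : V4} {c : ZMod 3}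
    (h : Valid (mkNear v c)) : affAct 0 m (mkNear v c) = mkNear (app m v) c := by
  by_cases hl : isLead v = true
  · rw [mkNear, if_pos hl]
    simp [affAct, bA_zero_right]
  · have hv := hm _ h
    rw [mkNear, if_neg hl] at hv ⊢
    simp only [affAct, bA_zero_right, add_zero, app_neg] at hv ⊢
    obtain ⟨h1, h2⟩ := mkNear_valid hv
    have e := mkNear_neg h1 h2 (-c)
    rw [neg_neg, neg_neg] at e
    exact e.symm

theorem affAct_mul {m m' : M4} (hm : ∀ p, Valid p → Valid (affAct 0 m p))
    (hm' : ∀ p, Valid p → Valid (affAct 0 m' p)) {p : Pt} (hp : Valid p) :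
    affAct 0 (m * m') p = affAct 0 m (affAct 0 m' p) := by
  cases p with
  | top => rfl
  | far w => simp [affAct, app_mul]
  | near v c =>
    have h := hm' _ hp
    show mkNear (app (m * m') v) (c + bA _ 0) = affAct 0 m (mkNear (app m' v) (c + bA _ 0))
    simp only [affAct, bA_zero_right, add_zero] at h
    rw [bA_zero_right, bA_zero_right, add_zero, app_mul, affAct_mkNear hm h]

theorem affAct_add (a b : V4) {p : Pt} (hp : Valid p) :
    affAct (a + b) 1 p = affAct a 1 (affAct b 1 p) := by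
  cases p with
  | top => rfl
  | far w => simp [affAct, app_one, add_assoc]
  | near v c =>
    obtain ⟨-, hl⟩ := hp
    simp only [affAct, app_one, mkNear, hl, if_true]
    rw [bA_add_right]; congr 1; ring

theorem affAct_zero_one {p : Pt} (hp : Valid p) : affAct 0 1 p = p := by
  cases p with
  | top => rfl
  | far w => simp [affAct, app_one]
  | near v c => simp [affAct, app_one, mkNear, hp.2, bA_zero_right]

theorem eV_sum (a : V4) :
    a = (a 0).val • eV 0 + (a 1).val • eV 1 + (a 2).val • eV 2 + (a 3).val • eV 3 := by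
  funext r
  simp only [Pi.add_apply, Pi.smul_apply]
  simp only [nsmul_eq_mul, ZMod.natCast_zmod_val]
  fin_cases r <;> simp [eV]

theorem agree_trans_nsmul (i : Fin 4) : ∀ n : ℕ, ∃ g, Agree (affAct (n • eV i) 1) g
  | 0 => ⟨1, agree_congr agree_id fun p hp => by rw [zero_smul, affAct_zero_one hp]⟩
  | n + 1 => by
    obtain ⟨g, hg⟩ := agree_trans_nsmul i n
    refine ⟨g * gen ⟨1 + i.val, by omega⟩, agree_congr (agree_comp hg (agree_of_agreeB _ (agree_trans i))) ?_⟩
    intro p hp
    rw [succ_nsmul, affAct_add _ _ hp]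

theorem agree_translation (a : V4) : ∃ g, Agree (affAct a 1) g := by
  obtain ⟨g0, h0⟩ := agree_trans_nsmul 0 (a 0).val
  obtain ⟨g1, h1⟩ := agree_trans_nsmul 1 (a 1).val
  obtain ⟨g2, h2⟩ := agree_trans_nsmul 2 (a 2).val
  obtain ⟨g3, h3⟩ := agree_trans_nsmul 3 (a 3).val
  refine ⟨g0 * g1 * g2 * g3, agree_congr (agree_comp (agree_comp (agree_comp h0 h1) h2) h3) fun p hp => ?_⟩
  conv_lhs => rw [eV_sum a]
  rw [affAct_add _ _ hp]
  have v3 := (h3 p hp).1
  rw [affAct_add _ _ v3, affAct_add _ _ ((h2 _ v3).1)]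

theorem agree_inL {m : M4} (h : InL m) : ∃ g, Agree (affAct 0 m) g := by
  obtain ⟨u, hu, rfl⟩ := h
  rw [Lgrp, ← Subgroup.mem_toSubmonoid, Subgroup.closure_toSubmonoid_of_finite] at hu
  induction hu using Submonoid.closure_induction with
  | one => exact ⟨1, agree_congr agree_id fun p hp => affAct_zero_one hp⟩
  | mem u hu =>
    have hmem : u.1 ∈ linGen := by
      rcases hu with h | h | h | h | ⟨c, d, h⟩
      all_goals rw [h]
      · simp [linGen]
      · simp [linGen]
      · simp [linGen]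
      · simp [linGen]
      · exact siegel_mem c d
    obtain ⟨k, hk, e⟩ := List.getElem_of_mem hmem
    have hk' : k < 13 := hk
    refine ⟨gen ⟨5 + k, by omega⟩, ?_⟩
    rw [← e, ← List.getD_eq_getElem linGen 1 hk]
    exact agree_of_agreeB _ (agree_lin k hk')
  | mul u w _ _ hu hw =>
    obtain ⟨g, hg⟩ := hu
    obtain ⟨g', hg'⟩ := hw
    refine ⟨g * g', agree_congr (agree_comp hg hg') fun p hp => ?_⟩
    exact affAct_mul (fun p hp => (hg p hp).1) (fun p hp => (hg' p hp).1) hp

/-- the permutation is induced by the element -/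
def Induced (σ : Equiv.Perm VPt) (g : SU 4 K 3) : Prop :=
  ∀ (p : VPt) (x : W), Sp (line p.1) x → Sp (line (σ p).1) (suMat g *ᵥ x)

theorem induced_one : Induced 1 1 := fun p x hx => by rwa [suMat_one, one_mulVec, Equiv.Perm.one_apply]

theorem induced_mul {σ σ' : Equiv.Perm VPt} {g g' : SU 4 K 3} (h : Induced σ g) (h' : Induced σ' g') :
    Induced (σ * σ') (g * g') := fun p x hx => by
  rw [suMat_mulVec_mul]; exact h _ _ (h' p x hx)

theorem induced_of_agree {f : Pt → Pt} {g : SU 4 K 3} (h : Agree f g) {σ : Equiv.Perm VPt}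
    (hσ : ∀ p, (σ p).1 = f p.1) : Induced σ g := fun p x hx => by
  rw [hσ]; exact (h p.1 p.2).2 x hx

theorem finite_vpt : Finite VPt := by
  refine Finite.of_injective (fun p : VPt => (⟨p.1, mem_allPts p.2⟩ : {p : Pt // p ∈ allPts})) ?_
  intro p r e
  exact Subtype.ext (congrArg (fun z : {p : Pt // p ∈ allPts} => z.1) e)

theorem exists_induced {σ : Equiv.Perm VPt} (h : σ ∈ modelGroup) : ∃ g, Induced σ g := by
  have := finite_vpt
  rw [modelGroup, ← Subgroup.mem_toSubmonoid, Subgroup.closure_toSubmonoid_of_finite] at h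
  induction h using Submonoid.closure_induction with
  | one => exact ⟨1, induced_one⟩
  | mem σ hσ =>
    rcases hσ with h | ⟨a, h⟩ | ⟨m, hm, h⟩
    · exact ⟨_, induced_of_agree (agree_of_agreeB (k := 0) (by norm_num) agree_j) h⟩
    · obtain ⟨g, hg⟩ := agree_translation a
      exact ⟨g, induced_of_agree hg h⟩
    · obtain ⟨g, hg⟩ := agree_inL hm
      exact ⟨g, induced_of_agree hg h⟩
  | mul σ τ _ _ hs ht =>
    obtain ⟨g, hg⟩ := hs
    obtain ⟨g', hg'⟩ := ht
    exact ⟨g * g', induced_mul hg hg'⟩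

theorem sp_orth {p : Pt} (hp : Valid p) {x y : W} (hx : Sp (line p) x) (hy : Sp (line p) y) :
    hermForm 4 K 3 x y = 0 := by
  have h := ti_ok
  simp only [tiB, List.all_eq_true, decide_eq_true_eq, List.mem_cons, List.not_mem_nil, or_false,
    forall_eq_or_imp, forall_eq] at h
  obtain ⟨⟨h11, h12⟩, h21, h22⟩ := h p (mem_allPts hp)
  obtain ⟨a, b, rfl⟩ := hx
  obtain ⟨c, d, rfl⟩ := hy
  simp only [h_add_left, h_add_right hK, h_smul_left, h_smul_right hK, line, h11, h12, h21, h22, mul_zero,
    add_zero]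

theorem eq_of_sp {p r : Pt} (hp : Valid p) (hr : Valid r) (h1 : Sp (line r) (line p).1)
    (h2 : Sp (line r) (line p).2) : p = r := by
  have h := sep_ok
  simp only [sepB, List.all_eq_true, Bool.or_eq_true, decide_eq_true_eq, List.any_eq_true, List.mem_cons,
    List.not_mem_nil, or_false] at h
  rcases h p (mem_allPts hp) r (mem_allPts hr) with e | ⟨a, ha, b, hb, hab⟩
  · exact e
  · exfalso
    refine hab (sp_orth hr ?_ ?_)
    · rcases ha with rfl | rfl
      exacts [h1, h2]
    · rcases hb with rfl | rfl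
      exacts [sp_fst _, sp_snd _]

theorem induced_one_eq {σ : Equiv.Perm VPt} (h : Induced σ 1) : σ = 1 := by
  refine Equiv.ext fun p => ?_
  have h1 := h p _ (sp_fst _)
  have h2 := h p _ (sp_snd _)
  rw [suMat_one, one_mulVec] at h1 h2
  exact Subtype.ext (eq_of_sp p.2 (σ p).2 h1 h2).symm

theorem induced_inv {σ : Equiv.Perm VPt} {g : SU 4 K 3} (h : Induced σ g) : Induced σ⁻¹ g⁻¹ := by
  have := finite_vpt
  haveI : Finite (SU 4 K 3) := Finite.of_injective (fun g : SU 4 K 3 => suMat g) fun _ _ e => SU_ext e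
  have key : ∀ n : ℕ, Induced (σ ^ n) (g ^ n) := by
    intro n
    induction n with
    | zero => rw [pow_zero, pow_zero]; exact induced_one
    | succ n ih => rw [pow_succ, pow_succ]; exact induced_mul ih h
  have hn : orderOf g * orderOf σ ≠ 0 :=
    Nat.mul_ne_zero (orderOf_pos g).ne' (orderOf_pos σ).ne'
  obtain ⟨n, hn'⟩ := Nat.exists_eq_succ_of_ne_zero hn
  have e1 : g ^ n = g⁻¹ := eq_inv_of_mul_eq_one_left (by
    rw [← pow_succ, ← Nat.succ_eq_add_one, ← hn', pow_mul, pow_orderOf_eq_one, one_pow])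
  have e2 : σ ^ n = σ⁻¹ := eq_inv_of_mul_eq_one_left (by
    rw [← pow_succ, ← Nat.succ_eq_add_one, ← hn', pow_mul', pow_orderOf_eq_one, one_pow])
  rw [← e1, ← e2]
  exact key n

theorem induced_unique {σ τ : Equiv.Perm VPt} {g : SU 4 K 3} (h : Induced σ g) (h' : Induced τ g) :
    σ = τ := by
  have := induced_mul (induced_inv h) h'
  rw [inv_mul_cancel] at this
  exact inv_mul_eq_one.1 (induced_one_eq this)

theorem scalar_of_induced {g : SU 4 K 3} (h : Induced 1 g) : ∃ l : K, suMat g = l • 1 := by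
  have hw : ∀ i : Fin 5, ∃ l : K, suMat g *ᵥ witV i.val = l • witV i.val := by
    intro i
    obtain ⟨⟨p, hp, ep⟩, ⟨r, hr, er⟩, s1, s2, hc, hi⟩ := wit_ok i
    have valid : ∀ p ∈ allPts, Valid p := fun p hp => valid_of_validB (by
      revert p; decide +kernel)
    have g1 := h ⟨p, valid p hp⟩ (witV i.val) (by show Sp (lineC (code p)) _; rw [ep]; exact sp_of_inSp s1)
    have g2 := h ⟨r, valid r hr⟩ (witV i.val) (by show Sp (lineC (code r)) _; rw [er]; exact sp_of_inSp s2)
    simp only [Equiv.Perm.one_apply, line, ep, er] at g1 g2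
    obtain ⟨a, b, e1⟩ := g1
    obtain ⟨c, d, e2⟩ := g2
    have := hi a b (by rw [← e1, e2]; exact hc c d)
    obtain ⟨l, hl⟩ := this
    exact ⟨l, e1.trans hl⟩
  choose l hl using hw
  obtain ⟨hdet, hco, hne⟩ := frame_ok
  have hcols : suMat g * witB = witB * Matrix.diagonal fun j => l j.castSucc := by
    ext i j
    rw [Matrix.mul_diagonal]
    have := congrFun (hl j.castSucc) i
    simp only [mulVec, dotProduct, Pi.smul_apply, smul_eq_mul] at this
    rw [Matrix.mul_apply]
    exact this.trans (mul_comm _ _)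
  have hl5 : ∀ j : Fin 4, l j.castSucc = l 4 := by
    have e : witB *ᵥ (fun j => l j.castSucc * coV j) = witB *ᵥ (l 4 • coV) := by
      have h5 : suMat g *ᵥ witV 4 = l 4 • witV 4 := hl 4
      rw [mulVec_smul, hco, ← h5, ← hco, mulVec_mulVec, hcols, ← mulVec_mulVec]
      congr 1
      funext j
      rw [mulVec_diagonal]
    intro j
    have := congrFun (Matrix.mulVec_injective_iff_isUnit.2
      ((Matrix.isUnit_iff_isUnit_det _).2 (Ne.isUnit hdet)) e) j
    simp only [Pi.smul_apply, smul_eq_mul] at this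
    exact mul_right_cancel₀ (hne j) this
  refine ⟨l 4, ?_⟩
  have e : suMat g * witB = (l 4 • (1 : Matrix (Fin 4) (Fin 4) K)) * witB := by
    rw [hcols, smul_mul, one_mul]
    ext i j
    rw [Matrix.mul_diagonal, hl5, Matrix.smul_apply, smul_eq_mul, mul_comm]
  exact ((Matrix.isUnit_iff_isUnit_det _).2 (Ne.isUnit hdet)).mul_right_cancel e

/-- the elements inducing permutations of the model -/
noncomputable def inducing : Subgroup (SU 4 K 3) where
  carrier := {g | ∃ σ ∈ modelGroup, Induced σ g}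
  one_mem' := ⟨1, one_mem _, induced_one⟩
  mul_mem' := fun ⟨σ, hσ, h⟩ ⟨τ, hτ, h'⟩ => ⟨σ * τ, mul_mem hσ hτ, induced_mul h h'⟩
  inv_mem' := fun ⟨σ, hσ, h⟩ => ⟨σ⁻¹, inv_mem hσ, induced_inv h⟩

/-- the induced permutation -/
noncomputable def perm : ↥inducing →* ↥modelGroup where
  toFun g := ⟨g.2.choose, g.2.choose_spec.1⟩
  map_one' := Subtype.ext (induced_unique (1 : ↥inducing).2.choose_spec.2 induced_one)
  map_mul' g h := Subtype.ext (induced_unique (g * h).2.choose_spec.2
    (induced_mul g.2.choose_spec.2 h.2.choose_spec.2))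

theorem perm_surjective : Function.Surjective perm := fun ⟨σ, hσ⟩ => by
  obtain ⟨g, hg⟩ := exists_induced hσ
  let g' : ↥inducing := ⟨g, σ, hσ, hg⟩
  exact ⟨g', Subtype.ext (induced_unique g'.2.choose_spec.2 hg)⟩

theorem perm_ker : perm.ker = (Subgroup.center (SU 4 K 3)).subgroupOf inducing := by
  ext g
  rw [MonoidHom.mem_ker, Subgroup.mem_subgroupOf, mem_center_iff_scalar hK (by norm_num)]
  constructor
  · intro h
    have := g.2.choose_spec.2
    rw [show g.2.choose = 1 from congrArg Subtype.val h] at this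
    exact scalar_of_induced this
  · rintro ⟨l, hl⟩
    refine Subtype.ext (induced_unique g.2.choose_spec.2 ?_)
    intro p x hx
    rw [hl, smul_mulVec, one_mulVec]
    exact sp_smul hx l

theorem center_le : Subgroup.center (SU 4 K 3) ≤ inducing := fun g hg => by
  obtain ⟨l, hl⟩ := (mem_center_iff_scalar hK (by norm_num)).1 hg
  exact ⟨1, one_mem _, fun p x hx => by rw [hl, smul_mulVec, one_mulVec]; exact sp_smul hx l⟩

theorem card_PSU : Nat.card (PSU 4 K 3) = 3265920 := by
  have h := H50.card_PSU_mul hK (n := 4) (by norm_num)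
  rw [H50.card_GU hK] at h
  norm_num [Finset.prod_range_succ, Nat.even_iff] at h
  omega

theorem iso_nine (hc : Nat.card modelGroup = 3265920) : Nonempty (↥modelGroup ≃* PSU 4 K 3) := by
  haveI : Finite (SU 4 K 3) := Finite.of_injective (fun g : SU 4 K 3 => suMat g) fun _ _ e => SU_ext e
  let e := QuotientGroup.quotientKerEquivOfSurjective perm perm_surjective
  have hz : Nat.card ↥perm.ker = Nat.card ↥(Subgroup.center (SU 4 K 3)) := by
    rw [perm_ker]
    exact Nat.card_congr (Subgroup.subgroupOfEquivOfLe center_le).toEquiv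
  have htop : inducing = ⊤ := by
    refine Subgroup.eq_top_of_card_eq _ ?_
    rw [Subgroup.card_eq_card_quotient_mul_card_subgroup perm.ker, Nat.card_congr e.toEquiv, hc, hz,
      ← card_PSU]
    exact (Subgroup.card_eq_card_quotient_mul_card_subgroup _).symm
  let i : ↥inducing ≃* SU 4 K 3 := (MulEquiv.subgroupCongr htop).trans Subgroup.topEquiv
  refine ⟨e.symm.trans (QuotientGroup.congr _ _ i ?_)⟩
  rw [perm_ker]
  exact Subgroup.map_subgroupOf_eq_of_le center_le

/-- The model group is `PSU(4,3)`, over any field with nine elements. -/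
theorem modelGroup_iso (hc : Nat.card modelGroup = 3265920) (F : Type) [Field F] [Fintype F]
    (hF : Fintype.card F = 9) : Nonempty (↥modelGroup ≃* PSU 4 F 3) := by
  obtain ⟨e⟩ := iso_nine hc
  let ψ := H64.suCongr 4 3 (FiniteField.ringEquivOfCardEq (K := K) (K' := F) (by rw [hF, hK]; norm_num))
  refine ⟨e.trans (QuotientGroup.congr _ _ ψ ?_)⟩
  ext x
  rw [Subgroup.mem_map, Subgroup.mem_center_iff]
  constructor
  · rintro ⟨z, hz, rfl⟩ g
    obtain ⟨k, rfl⟩ := ψ.surjective g
    show ψ k * ψ z = ψ z * ψ k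
    rw [← map_mul, ← map_mul, Subgroup.mem_center_iff.mp hz k]
  · intro hx
    obtain ⟨z, rfl⟩ := ψ.surjective x
    exact ⟨z, Subgroup.mem_center_iff.mpr fun k => ψ.injective (by rw [map_mul, map_mul]; exact hx (ψ k)), rfl⟩

end H52.U43
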